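import Cfsg.Agent.H602.DM.Center
import Cfsg.Agent.H288.DM.Center
import Cfsg.Agent.H140.DM.Cross
import Cfsg.Agent.H396.DM.Same
import Cfsg.Agent.H358.DM.Alt
import Cfsg.Agent.H358.DM.Spor

/-!
# S4907, DM34: identification by the order (helper946)

* `center_dvd_exc'`, `center_dvd_pow` : `|Z(G)|` divides `dd Y (r ^ g) * r ^ k` for a quasisimple group `G` with central
  quotient of Lie type, shape `Y`, over the field with `r ^ g` elements;
* `ident` : `|G / Z(G)| = |S|`.
-/

set_option autoImplicit false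

namespace Cfsg.Agent.H946.DM

open Cfsg Cfsg.Lie Cfsg.Agent Cfsg.Agent.H902 Cfsg.Agent.H288.DM
open Cfsg.Agent.H902.Art (Sh)
open Cfsg.Agent.H700.DM (IsCl)

universe u v

/-- the centre, exceptional types -/
theorem center_dvd_exc' {G : Type u} [Group G] [Finite G] (hG : IsQuasisimple G) {n : OrdDiv.Grp} {Y : Sh} {p g : ℕ}
    (hY : ¬ IsCl Y) (hn : Names.IsLie n Y p g) (hr : OrdDiv.Real n (G ⧸ Subgroup.center G))
    (hc : Art.Real Y p g (Nat.card (G ⧸ Subgroup.center G))) :
    ∃ k, Nat.card (Subgroup.center G) ∣ Art.dd Y (p ^ g) * p ^ k := by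
  have hg0 : g ≠ 0 := by have := hc.hf; omega
  have hpp := hc.hp
  have h0 : ∀ {b : ℕ}, Nat.card (Subgroup.center G) ∣ b → ∃ k, Nat.card (Subgroup.center G) ∣ b * p ^ k :=
    fun h => ⟨0, by rw [pow_zero, mul_one]; exact h⟩
  cases hn with
  | psl => exact absurd trivial hY
  | psp => exact absurd trivial hY
  | oodd => exact absurd trivial hY
  | psu => exact absurd trivial hY
  | oplus => exact absurd trivial hY
  | ominus => exact absurd trivial hY
  | g2 =>
    obtain ⟨F, _, _, hF, ⟨e⟩⟩ := hr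
    have h3 : 3 ≤ p ^ g := hc.ok
    change ∃ k, _ ∣ 1 * p ^ k
    rcases h3.eq_or_lt with h | h
    · have hp3 : p = 3 := eq_of_pow hpp Nat.prime_three one_ne_zero hg0 (by rw [← h, pow_one])
      exact ⟨1, by rw [hp3]; exact cyc (S2101.result (F := F) (by rw [hF, ← h])) hG e⟩
    · rcases (Nat.succ_le_of_lt h).eq_or_lt with h' | h'
      · have hp2 : p = 2 := eq_of_pow hpp Nat.prime_two two_ne_zero hg0 (by rw [← h']; rfl)
        exact ⟨1, by rw [hp2]; exact cyc (S2102.result (F := F) (by rw [hF, ← h'])) hG e⟩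
      · exact h0 (cyc (S2100.result (F := F) (by rw [hF]; omega)) hG e)
  | f4 =>
    obtain ⟨F, _, _, hF, ⟨e⟩⟩ := hr
    change ∃ k, _ ∣ 1 * p ^ k
    have h2 : 2 ≤ Fintype.card F := Fintype.one_lt_card
    rcases h2.eq_or_lt with h | h
    · have hp2 : p = 2 := eq_of_pow hpp Nat.prime_two one_ne_zero hg0 (by rw [← hF, ← h, pow_one])
      exact ⟨1, by rw [hp2]; exact cyc (S2104.result (F := F) h.symm) hG e⟩
    · exact h0 (cyc (S2103.result (F := F) h) hG e)
  | e6 =>
    obtain ⟨F, _, _, hF, ⟨e⟩⟩ := hr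
    exact h0 (cyc (S2105.result (F := F) hF) hG e)
  | e7 =>
    obtain ⟨F, _, _, hF, ⟨e⟩⟩ := hr
    exact h0 (cyc (S2106.result (F := F) hF) hG e)
  | e8 =>
    obtain ⟨F, _, _, hF, ⟨e⟩⟩ := hr
    exact h0 (cyc (S2107.result (F := F)) hG e)
  | te6 =>
    obtain ⟨F, _, _, hF, ⟨e⟩⟩ := hr
    have hq : IsPrimePow (p ^ g) := hpp.isPrimePow.pow hg0
    by_cases h2 : p ^ g = 2
    · have hp2 : p = 2 := eq_of_pow hpp Nat.prime_two one_ne_zero hg0 (by rw [h2, pow_one])
      rw [h2] at hF e ⊢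
      change ∃ k, _ ∣ 3 * p ^ k
      refine ⟨2, ?_⟩
      have h := center_dvd_of_mult (S2109.result (K := F) hF) hG e
      have hA : Nat.card (Multiplicative (ZMod 3 × ZMod 2 × ZMod 2)) = 3 * p ^ 2 := by
        rw [Nat.card_congr Multiplicative.toAdd, Nat.card_prod, Nat.card_prod, Nat.card_zmod, Nat.card_zmod, hp2]; norm_num
      rwa [hA] at h
    · exact h0 (cyc (S2108.result (K := F) hq hF h2) hG e)
  | td4 =>
    obtain ⟨F, _, _, hF, ⟨e⟩⟩ := hr
    exact h0 (cyc (S2110.result (K := F) (hpp.isPrimePow.pow hg0) hF) hG e)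
  | sz =>
    obtain ⟨F, _, _, m, hm, hF, hq, ⟨e⟩⟩ := hr
    change ∃ k, _ ∣ 1 * p ^ k
    rcases hm.eq_or_lt with rfl | h
    · have hp2 : p = 2 := eq_of_pow hpp Nat.prime_two (by norm_num) hg0 hq
      refine ⟨2, ?_⟩
      have h := center_dvd_of_mult (S2112.result (F := F) (by rw [hF, hq]; norm_num)) hG e
      have hA : Nat.card (Multiplicative (ZMod 2 × ZMod 2)) = 1 * p ^ 2 := by
        rw [Nat.card_congr Multiplicative.toAdd, Nat.card_prod, Nat.card_zmod, hp2]; norm_num
      rwa [hA] at h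
    · exact h0 (cyc (S2111.result (F := F) h (by rw [hF, hq])) hG e)
  | ree =>
    obtain ⟨F, _, _, m, hm, hF, hq, ⟨e⟩⟩ := hr
    exact h0 (cyc (S2113.result (K := F) hm (by rw [hF, hq])) hG e)
  | tf4 =>
    obtain ⟨F, _, _, m, hm, hF, hq, ⟨e⟩⟩ := hr
    exact h0 (cyc (S2114.result (K := F) hm (by rw [hF, hq])) hG e)

/-- **the order of the centre**, all groups of Lie type -/
theorem center_dvd_pow {G : Type u} [Group G] [Finite G] (hG : IsQuasisimple G) {n : OrdDiv.Grp} {Y : Sh} {p g : ℕ}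
    (hn : Names.IsLie n Y p g) (hr : OrdDiv.Real n (G ⧸ Subgroup.center G))
    (hc : Art.Real Y p g (Nat.card (G ⧸ Subgroup.center G))) :
    ∃ k, Nat.card (Subgroup.center G) ∣ Art.dd Y (p ^ g) * p ^ k := by
  by_cases hY : IsCl Y
  · rcases H602.DM.center_cases hG hY hn hr hc with h | ⟨m, k, -, h1, h2⟩
    · exact ⟨0, by rw [pow_zero, mul_one]; exact h⟩
    · exact ⟨k, by rw [mul_comm]; exact h2.trans h1⟩
  · exact center_dvd_exc' hG hY hn hr hc

/-- **the order of the centre of a `p'`-cover**, all groups of Lie type -/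
theorem center_dvd {G : Type u} [Group G] [Finite G] (hG : IsQuasisimple G) {n : OrdDiv.Grp} {Y : Sh} {p g : ℕ}
    (hn : Names.IsLie n Y p g) (hr : OrdDiv.Real n (G ⧸ Subgroup.center G))
    (hc : Art.Real Y p g (Nat.card (G ⧸ Subgroup.center G))) (hp : ¬ p ∣ Nat.card (Subgroup.center G)) :
    Nat.card (Subgroup.center G) ∣ Art.dd Y (p ^ g) := by
  obtain ⟨k, hk⟩ := center_dvd_pow hG hn hr hc
  refine Nat.Coprime.dvd_of_dvd_mul_right ?_ hk
  exact (Nat.Coprime.pow_left k ((Nat.Prime.coprime_iff_not_dvd hc.hp).2 hp)).symm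

/-- **DM34**: identification by the order -/
theorem ident {S : Type v} [Group S] [Finite S] {X : Sh} {p f : ℕ} (hX : IsCl X) (hS : Art.Real X p f (Nat.card S))
    {G : Type u} [Group G] [Finite G] (hG : IsQuasisimple G) (hN : Names.Nam (G ⧸ Subgroup.center G))
    (hp : ¬ p ∣ Nat.card (Subgroup.center G)) {z' : ℕ} (hz' : z' ∣ Art.dd X (p ^ f))
    (hP : (Nat.card (G ⧸ Subgroup.center G)).factorization p = (Nat.card S).factorization p)
    (hM : Nat.card (G ⧸ Subgroup.center G) * Nat.card (Subgroup.center G) = Nat.card S * z') :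
    Nat.card (G ⧸ Subgroup.center G) = Nat.card S := by
  -- `p` divides the order of the simple group
  have hpM : p ∣ Nat.card (G ⧸ Subgroup.center G) := by
    have h1 : p ∣ Nat.card S := by
      have h2 := hS.P_self
      have h3 : p ∣ (p ^ f) ^ Art.NN X := by
        rw [← pow_mul]
        exact dvd_pow_self p (Nat.mul_ne_zero (by have := hS.hf; omega) (by have := Art.NN_pos hS; omega))
      rw [← h2] at h3
      exact h3.trans (Art.P_dvd _ _)
    have h4 : 1 ≤ (Nat.card S).factorization p := hS.hp.factorization_pos_of_dvd hS.M_ne h1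
    rw [← hP] at h4
    exact Nat.dvd_of_factorization_pos (by omega)
  cases hN with
  | alt n hn h hc =>
    obtain ⟨e⟩ := h
    exact H358.DM.alt_eq hX hS hn hc hpM hP (H288.DM.center_dvd_alt hG hn e).1 hz' hM
  | spor x hx h hc =>
    exfalso
    rw [hc] at hpM hP hM
    refine H358.DM.spor_ne hX hS hx hpM hP ?_
    have h1 : x.2 ∣ Nat.card S * z' := ⟨_, hM.symm⟩
    exact h1.trans (Nat.mul_dvd_mul_left _ hz')
  | lie g Y r b hg h hc =>
    by_cases hpr : p = r
    · subst hpr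
      exact H396.DM.same_eq hX hS hc hz' (center_dvd hG hg h hc hp) hP hM
    · exact H140.DM.cross_eq hX hS hc hpr hz' Nat.card_pos (center_dvd_pow hG hg h hc) hP hM

end Cfsg.Agent.H946.DM
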